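import Groth.Agent.Lib.GrpFin20.Proper
import Groth.Agent.Lib.GrpCM20.Basic
import Groth.Agent.Lib.FibDim14.BaseChange
import Groth.Agent.Lib.OrbitDim19.Basic
import Groth.Agent.Lib.GrpImage19.Basic
import Groth.Agent.Lib.AbRigid.KernelPair

/-!
# Image and kernel dimensions of homomorphisms of algebraic groups
-/

universe u

open CategoryTheory Limits MonoidalCategory CartesianMonoidalCategory AlgebraicGeometry TopologicalSpace
open scoped MonObj GrpObj

set_option linter.style.haveILetI false
set_option backward.isDefEq.respectTransparency false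

namespace Groth.Agent.GrpDim20

open Groth.Agent.VarDim (sdim)

/-- The kernel of a homomorphism is a group. -/
theorem exists_grpObj_kernel {C : Type*} [Category C] [CartesianMonoidalCategory C] {G H N : C} [GrpObj G]
    [GrpObj H] (u : G ⟶ H) [IsMonHom u] (i : N ⟶ G) (hN : IsPullback i (toUnit N) u η[H]) :
    ∃ _ : GrpObj N, IsMonHom i := by
  haveI : Mono i := ⟨fun a b h => hN.hom_ext h (toUnit_unique _ _)⟩
  have hi : i ≫ u = 1 := by rw [hN.w, Hom.one_def]
  let e : 𝟙_ C ⟶ N := hN.lift η[G] (𝟙 _) (by rw [IsMonHom.one_hom, Category.id_comp])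
  let m : N ⊗ N ⟶ N := hN.lift ((i ⊗ₘ i) ≫ μ[G]) (toUnit _) (by
    rw [Category.assoc, IsMonHom.mul_hom, MonoidalCategory.tensorHom_comp_tensorHom_assoc, hi,
      ← Hom.one_def]
    rw [← CartesianMonoidalCategory.lift_fst_comp_snd_comp, ← Hom.mul_def, MonObj.comp_one, MonObj.comp_one,
      one_mul])
  let v : N ⟶ N := hN.lift (i ≫ ι[G]) (toUnit _) (by
    rw [GrpFin20.ι_eq_inv, GrpObj.inv_comp, hi, inv_one, Hom.one_def])
  letI : GrpObj N := AbRigid.grpObjOfMono i e (hN.lift_fst _ _ _) m (hN.lift_fst _ _ _) v (hN.lift_fst _ _ _)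
  exact ⟨inferInstance, ⟨hN.lift_fst _ _ _, hN.lift_fst _ _ _⟩⟩

variable {K : Type u} [Field K]

theorem fibreDimAt_point {X : Scheme.{u}} (f : X ⟶ Spec (CommRingCat.of K)) (x : X) :
    FlatMor.fibreDimAt f x = FlatMor.localDim X x := by
  have hr : Set.range (f.fiberι (f x)) = Set.univ := by
    rw [f.range_fiberι]
    exact Set.eq_univ_of_forall fun y => Subsingleton.elim (α := Spec (CommRingCat.of K)) _ _
  have he : Topology.IsOpenEmbedding (f.fiberι (f x)) :=
    ⟨(f.fiberι (f x)).isEmbedding, hr ▸ isOpen_univ⟩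
  exact (FibDim14.localDim_of_isOpenEmbedding he (f.asFiber x)).trans (by rw [f.fiberι_asFiber])

theorem sdim_le_localDim {X : Scheme.{u}} (f : X ⟶ Spec (CommRingCat.of K)) [LocallyOfFiniteType f] (x : X) :
    ((sdim f x : ℕ) : WithBot ℕ∞) ≤ FlatMor.localDim X x := by
  haveI : IsLocallyNoetherian X := LocallyOfFiniteType.isLocallyNoetherian f
  obtain ⟨b, hb⟩ := ENat.ne_top_iff_exists.1 (DimF18.coheight_ne_top (X := X) x)
  rw [DimF18.localDim_eq f hb.symm]
  exact_mod_cast Nat.le_add_right _ _

/-- The dimension of the source is the dimension of the image plus that of the kernel. -/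
theorem range_closed_and_dim (G H N : Over (Spec (CommRingCat.of K))) [GrpObj G] [GrpObj H]
    [LocallyOfFiniteType G.hom] [LocallyOfFiniteType H.hom] (u : G ⟶ H) [IsMonHom u] [QuasiCompact u.left]
    (i : N ⟶ G) (hN : IsPullback i (toUnit N) u η[H]) :
    IsClosed (Set.range u.left.base) ∧
      topologicalKrullDim G.left =
        topologicalKrullDim (Set.range u.left.base) + topologicalKrullDim N.left := by
  obtain ⟨_, hi⟩ := exists_grpObj_kernel u i hN
  -- the image is closed
  have hclosed : IsClosed (Set.range u.left.base) := by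
    let Z : Over (Spec (CommRingCat.of K)) := Over.mk (u.left.imageι ≫ H.hom)
    let i' : Z ⟶ H := Over.homMk u.left.imageι rfl
    let g : G ⟶ Z := Over.homMk u.left.toImage (by
      show u.left.toImage ≫ u.left.imageι ≫ H.hom = G.hom
      rw [Scheme.Hom.toImage_imageι_assoc, Over.w])
    haveI : IsClosedImmersion i'.left := inferInstanceAs (IsClosedImmersion u.left.imageι)
    haveI : IsSchemeTheoreticallyDominant g.left := AbRigid.isSchemeTheoreticallyDominant_toImage u.left
    have hgi : g ≫ i' = u := by ext1; exact u.left.toImage_imageι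
    haveI : Surjective g.left := GrpImage19.surjective u i' g hgi
    have : Set.range u.left.base = Set.range i'.left.base := by
      rw [← hgi, Over.comp_left, Scheme.Hom.comp_base, TopCat.coe_comp]
      exact g.left.surjective.range_comp _
    rw [this]
    exact i'.left.isClosedEmbedding.isClosed_range
  refine ⟨hclosed, ?_⟩
  haveI : LocallyOfFiniteType u.left := AlgGrpBasic19.lft_left u
  haveI hNl : LocallyOfFiniteType N.hom := by
    haveI : IsClosedImmersion η[H].left := by
      haveI : IsSeparated H.hom := AbRigid.isSeparated_of_grpObj H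
      haveI : IsClosedImmersion (η[H].left ≫ H.hom) := by
        rw [Over.w η[H]]; exact (inferInstance : IsClosedImmersion (𝟙 (Spec (CommRingCat.of K))))
      exact IsClosedImmersion.of_comp η[H].left H.hom
    haveI : IsClosedImmersion i.left := MorphismProperty.of_isPullback
      (P := @IsClosedImmersion) (hN.map (Over.forget _)).flip (inferInstance : IsClosedImmersion η[H].left)
    rw [← Over.w i]; infer_instance
  -- the dimension of the kernel
  let eN : N.left := η[N].left (IsLocalRing.closedPoint K)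
  obtain ⟨d, hd⟩ : ∃ d : ℕ, topologicalKrullDim N.left = (d : WithBot ℕ∞) := by
    haveI : IsLocallyNoetherian N.left := LocallyOfFiniteType.isLocallyNoetherian N.hom
    obtain ⟨b, hb⟩ := ENat.ne_top_iff_exists.1 (DimF18.coheight_ne_top (X := N.left) eN)
    exact ⟨sdim N.hom eN + b, by rw [← GrpCM20.localDim_eq N eN, DimF18.localDim_eq N.hom hb.symm]⟩
  -- all fibres have this local dimension everywhere
  have hfib : ∀ x : G.left, FlatMor.fibreDimAt u.left x = (d : WithBot ℕ∞) := by
    intro x
    have hp := (AbRigid.isPullback_kernelPair u i hN).map (Over.forget _)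
    let w := (lift (𝟙 G) (toUnit G ≫ η[N])).left x
    have hsec : lift (𝟙 G) (toUnit G ≫ η[N]) ≫ (fst G N * (snd G N ≫ i)) = 𝟙 G := by
      rw [MonObj.comp_mul, lift_fst, ← Category.assoc, lift_snd, Category.assoc, IsMonHom.one_hom,
        ← Hom.one_def, mul_one]
    have hw : (fst G N * (snd G N ≫ i)).left w = x := by
      show (fst G N * (snd G N ≫ i)).left ((lift (𝟙 G) (toUnit G ≫ η[N])).left x) = x
      rw [← Scheme.Hom.comp_apply, ← Over.comp_left, hsec]
      rfl
    haveI : LocallyOfFiniteType (fst G N).left :=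
      inferInstanceAs (LocallyOfFiniteType (pullback.fst G.hom N.hom))
    haveI : LocallyOfFiniteType ((Over.forget (Spec (CommRingCat.of K))).map u) := ‹LocallyOfFiniteType u.left›
    haveI : LocallyOfFiniteType ((Over.forget (Spec (CommRingCat.of K))).map (fst G N)) := ‹LocallyOfFiniteType (fst G N).left›
    rw [← hw]
    refine (FibDim14.fibreDimAt_baseChange hp.flip w).symm.trans ?_
    refine (FibDim14.fibreDimAt_baseChange (IsPullback.of_hasPullback G.hom N.hom).flip w).trans ?_
    rw [fibreDimAt_point, GrpCM20.localDim_eq N, hd]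
  -- transcendence degrees along `u`
  have hsum : ∀ x : G.left, sdim G.hom x = sdim H.hom (u.left x) + FibDim14.rd u.left x := by
    intro x
    have h := VarDim.sdim_comp_eq H.hom u.left x
    rw [Over.w u] at h
    exact h
  have hle : ∀ x : G.left, FibDim14.rd u.left x ≤ d := by
    intro x
    rw [← u.left.fiberι_asFiber x, FibDim14.rd_fiberι]
    have h := sdim_le_localDim (FibDim14.toPt u.left (u.left x)) (u.left.asFiber x)
    rw [show FlatMor.localDim _ (u.left.asFiber x) = (d : WithBot ℕ∞) from hfib x] at h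
    exact_mod_cast h
  have hex : ∀ x₀ : G.left, ∃ x : G.left, u.left x = u.left x₀ ∧ FibDim14.rd u.left x = d := by
    intro x₀
    by_contra hne
    push_neg at hne
    let F := u.left.fiber (u.left x₀)
    have hlt : ∀ z : F, sdim (FibDim14.toPt u.left (u.left x₀)) z + 1 ≤ d := by
      intro z
      have hz : u.left (u.left.fiberι (u.left x₀) z) = u.left x₀ :=
        (u.left.range_fiberι (u.left x₀)).subset ⟨z, rfl⟩
      have h1 := hne _ hz
      have h2 := hle (u.left.fiberι (u.left x₀) z)
      rw [FibDim14.rd_fiberι] at h1 h2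
      omega
    have h : (d : WithBot ℕ∞) ≤ topologicalKrullDim F := by
      rw [← hfib x₀]
      refine iInf_le_of_le ⟨⊤, trivial⟩ ?_
      exact Topology.IsInducing.subtypeVal.topologicalKrullDim_le
    rw [VarDim.dim_eq_iSup_sdim (FibDim14.toPt u.left (u.left x₀))] at h
    have hd1 : 1 ≤ d := le_trans (Nat.le_add_left 1 _) (hlt (u.left.asFiber x₀))
    have h' : (⨆ z : F, ((sdim (FibDim14.toPt u.left (u.left x₀)) z : ℕ) : WithBot ℕ∞)) ≤ ((d - 1 : ℕ) : WithBot ℕ∞) :=
      iSup_le fun z => by
        have := hlt z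
        exact_mod_cast (by omega : sdim (FibDim14.toPt u.left (u.left x₀)) z ≤ d - 1)
    have : d ≤ d - 1 := by exact_mod_cast h.trans h'
    omega
  rw [hd, VarDim.dim_eq_iSup_sdim G.hom, OrbitDim19.dim_eq_iSup H.hom hclosed.isLocallyClosed]
  haveI : Nonempty G.left := ⟨η[G].left (IsLocalRing.closedPoint K)⟩
  haveI : Nonempty (Set.range u.left.base) := (Set.range_nonempty _).to_subtype
  refine le_antisymm (iSup_le fun x => ?_) ?_
  · refine le_trans ?_ (add_le_add (le_iSup_of_le (⟨u.left x, x, rfl⟩ : Set.range u.left.base) le_rfl) le_rfl)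
    rw [hsum x]
    push_cast
    exact add_le_add le_rfl (by exact_mod_cast hle x)
  · have hcoe : (⨆ y : Set.range u.left.base, ((sdim H.hom (y : H.left) : ℕ) : WithBot ℕ∞)) =
        ((⨆ y : Set.range u.left.base, ((sdim H.hom (y : H.left) : ℕ) : ℕ∞) : ℕ∞) : WithBot ℕ∞) :=
      (WithBot.coe_iSup (OrderTop.bddAbove _)).symm
    rw [hcoe, show ((d : ℕ) : WithBot ℕ∞) = (((d : ℕ) : ℕ∞) : WithBot ℕ∞) from rfl, ← WithBot.coe_add,
      ENat.iSup_add, WithBot.coe_iSup (OrderTop.bddAbove _)]
    refine iSup_le fun y => ?_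
    obtain ⟨x₀, hx₀⟩ := y.2
    obtain ⟨x, hx, hxd⟩ := hex x₀
    refine le_iSup_of_le x ?_
    rw [hsum x, hxd, hx, show u.left x₀ = y.1 from hx₀]
    push_cast
    exact le_rfl

end Groth.Agent.GrpDim20
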